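import Mathlib
import Cfsg.Agent.Prune
set_option linter.all false
open scoped Cfsg.Agent.FastGrp

/-!
# Elementary abelian subgroups of order 8 with all involutions conjugate: `A_n` (helper991)

Task 43 (for S5788, S5786).
-/

set_option autoImplicit false

namespace Cfsg.Agent.H991.Eight

open Equiv

/-- The pattern refuted by `Cfsg.Agent.H909.TwoCov.eight`. -/
def Pattern (X : Type*) [Group X] : Prop := ∃ a b d : X,
    a * a = 1 ∧ a * b = b * a ∧ a * d = d * a ∧ b * d = d * b ∧ a ≠ 1 ∧ a ≠ b ∧ IsConj a b ∧ IsConj a d ∧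
    IsConj a (a * b) ∧ IsConj a (a * d) ∧ IsConj a (b * d) ∧ IsConj a (a * (b * d))

theorem Pattern.map {X Y : Type*} [Group X] [Group Y] (f : X →* Y) (hf : Function.Injective f)
    (h : Pattern X) : Pattern Y := by
  obtain ⟨a, b, d, h1, h2, h3, h4, h5, h6, h7, h8, h9, h10, h11, h12⟩ := h
  refine ⟨f a, f b, f d, by rw [← map_mul, h1, map_one], by rw [← map_mul, h2, map_mul],
    by rw [← map_mul, h3, map_mul], by rw [← map_mul, h4, map_mul],
    fun h => h5 (hf (by rw [h, map_one])), fun h => h6 (hf h), ?_, ?_, ?_, ?_, ?_, ?_⟩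
  · exact f.map_isConj h7
  · exact f.map_isConj h8
  · rw [← map_mul]; exact f.map_isConj h9
  · rw [← map_mul]; exact f.map_isConj h10
  · rw [← map_mul]; exact f.map_isConj h11
  · rw [← map_mul, ← map_mul]; exact f.map_isConj h12

/-- multiplication table of the seven translations of `𝔽₈`, permuted by a 7-cycle -/
theorem Pattern.of_cycle {X : Type*} [Group X] (a s : X) (h1 : a * a = 1) (h0 : a ≠ 1)
    (hc : a * (s * a * s⁻¹) = s ^ 3 * a * (s ^ 3)⁻¹)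
    (hc1 : a * (s * a * s⁻¹) = s * a * s⁻¹ * a)
    (hc2 : a * (s ^ 2 * a * (s ^ 2)⁻¹) = s ^ 2 * a * (s ^ 2)⁻¹ * a)
    (h6 : a * (s ^ 2 * a * (s ^ 2)⁻¹) = s ^ 6 * a * (s ^ 6)⁻¹)
    (h5 : a * (s ^ 4 * a * (s ^ 4)⁻¹) = s ^ 5 * a * (s ^ 5)⁻¹) : Pattern X := by
  have hcj : ∀ n : ℕ, IsConj a (s ^ n * a * (s ^ n)⁻¹) := fun n => isConj_iff.2 ⟨s ^ n, rfl⟩
  have e1 : s * a * s⁻¹ * (s ^ 2 * a * (s ^ 2)⁻¹) = s ^ 4 * a * (s ^ 4)⁻¹ := by
    calc s * a * s⁻¹ * (s ^ 2 * a * (s ^ 2)⁻¹) = s * (a * (s * a * s⁻¹)) * s⁻¹ := by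
          simp only [pow_succ, pow_zero, one_mul, mul_inv_rev, mul_assoc, inv_mul_cancel_left]
      _ = _ := by
          rw [hc]
          simp only [pow_succ, pow_zero, one_mul, mul_inv_rev, mul_assoc]
  refine ⟨a, s * a * s⁻¹, s ^ 2 * a * (s ^ 2)⁻¹, h1, hc1, hc2, ?_, h0, ?_, ?_, ?_, ?_, ?_, ?_, ?_⟩
  · calc s * a * s⁻¹ * (s ^ 2 * a * (s ^ 2)⁻¹) = s * (a * (s * a * s⁻¹)) * s⁻¹ := by
          simp only [pow_succ, pow_zero, one_mul, mul_inv_rev, mul_assoc, inv_mul_cancel_left]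
      _ = s * (s * a * s⁻¹ * a) * s⁻¹ := by rw [hc1]
      _ = _ := by
          simp only [pow_succ, pow_zero, one_mul, mul_inv_rev, mul_assoc, inv_mul_cancel_left]
  · intro h
    -- then all the conjugates agree and `a * a = a`
    have h3 : s ^ 3 * a * (s ^ 3)⁻¹ = a := by
      have h' : s * a * s⁻¹ = a := h.symm
      calc s ^ 3 * a * (s ^ 3)⁻¹ = s * (s * (s * a * s⁻¹) * s⁻¹) * s⁻¹ := by
            simp only [pow_succ, pow_zero, one_mul, mul_inv_rev, mul_assoc]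
        _ = a := by rw [h', h', h']
    rw [h3, ← h, h1] at hc
    exact h0 hc.symm
  · have := hcj 1
    rwa [pow_one] at this
  · exact hcj 2
  · rw [hc]; exact hcj 3
  · rw [h6]; exact hcj 6
  · rw [e1]; exact hcj 4
  · rw [e1, h5]; exact hcj 5

/-- `x ↦ x + 1` on `𝔽₈` (binary digits) -/
def p8 : Perm (Fin 8) := swap (0 : Fin 8) 1 * swap (2 : Fin 8) 3 * swap (4 : Fin 8) 5 * swap (6 : Fin 8) 7

/-- multiplication by a root of `t ^ 3 + t + 1` -/
def s8 : Perm (Fin 8) := swap (1 : Fin 8) 5 * swap (1 : Fin 8) 7 * swap (1 : Fin 8) 6 * swap (1 : Fin 8) 3 * swap (1 : Fin 8) 4 * swap (1 : Fin 8) 2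

theorem p8_mem : p8 ∈ alternatingGroup (Fin 8) := by
  rw [Equiv.Perm.mem_alternatingGroup]; decide +kernel

theorem s8_mem : s8 ∈ alternatingGroup (Fin 8) := by
  rw [Equiv.Perm.mem_alternatingGroup]; decide +kernel

theorem alt_eight' : Pattern (alternatingGroup (Fin 8)) := by
  refine Pattern.of_cycle ⟨p8, p8_mem⟩ ⟨s8, s8_mem⟩ (Subtype.ext ?_)
    (fun h => ?_) (Subtype.ext ?_) (Subtype.ext ?_)
    (Subtype.ext ?_) (Subtype.ext ?_) (Subtype.ext ?_)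
  · show p8 * p8 = 1
    decide +kernel
  · have h1 : p8 = 1 := congrArg Subtype.val h
    revert h1
    decide +kernel
  · show p8 * (s8 * p8 * s8⁻¹) = s8 ^ 3 * p8 * (s8 ^ 3)⁻¹
    decide +kernel
  · show p8 * (s8 * p8 * s8⁻¹) = s8 * p8 * s8⁻¹ * p8
    decide +kernel
  · show p8 * (s8 ^ 2 * p8 * (s8 ^ 2)⁻¹) = s8 ^ 2 * p8 * (s8 ^ 2)⁻¹ * p8
    decide +kernel
  · show p8 * (s8 ^ 2 * p8 * (s8 ^ 2)⁻¹) = s8 ^ 6 * p8 * (s8 ^ 6)⁻¹
    decide +kernel
  · show p8 * (s8 ^ 4 * p8 * (s8 ^ 4)⁻¹) = s8 ^ 5 * p8 * (s8 ^ 5)⁻¹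
    decide +kernel

/-- `A₈ → A_n` -/
def emb {n : ℕ} (h : 8 ≤ n) : alternatingGroup (Fin 8) →* alternatingGroup (Fin n) :=
  ((Equiv.Perm.extendDomainHom (p := fun i : Fin n => (i : ℕ) < 8) (Fin.castLEquiv h)).comp
    (alternatingGroup (Fin 8)).subtype).codRestrict _ fun x => by
      rw [Equiv.Perm.mem_alternatingGroup]
      exact (Equiv.Perm.sign_extendDomain x.1 _).trans (Equiv.Perm.mem_alternatingGroup.1 x.2)

theorem emb_injective {n : ℕ} (h : 8 ≤ n) : Function.Injective (emb h) := by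
  intro x y hxy
  apply Subtype.ext
  exact Equiv.Perm.extendDomainHom_injective _ (congrArg Subtype.val hxy)

theorem alt_eight (n : ℕ) (h8 : 8 ≤ n) : ∃ a b d : alternatingGroup (Fin n),
    a * a = 1 ∧ a * b = b * a ∧ a * d = d * a ∧ b * d = d * b ∧ a ≠ 1 ∧ a ≠ b ∧ IsConj a b ∧ IsConj a d ∧
    IsConj a (a * b) ∧ IsConj a (a * d) ∧ IsConj a (b * d) ∧ IsConj a (a * (b * d)) :=
  alt_eight'.map (emb h8) (emb_injective h8)

end Cfsg.Agent.H991.Eight
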