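import Cfsg.Agent.ClassicalGeometry.PSLTorus
import Cfsg.Agent.S0261
import Cfsg.Agent.S0243
set_option linter.all false

/-!
# Dihedral Sylow 2-subgroups of `PSL(2, q)`, `q` odd (helper991)
-/

set_option autoImplicit false

namespace Cfsg.Agent.H991

open Cfsg

theorem quat_sq {n : ℕ} [NeZero n] (x : QuaternionGroup n) (h : x * x = 1) :
    x = 1 ∨ x = QuaternionGroup.a n := by
  rcases x with i | i
  · rw [QuaternionGroup.a_mul_a, QuaternionGroup.one_def] at h
    have h1 : i + i = 0 := QuaternionGroup.a.inj h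
    obtain ⟨m, rfl⟩ : ∃ m : ℕ, i = (m : ZMod (2 * n)) := ⟨i.val, (ZMod.natCast_zmod_val i).symm⟩
    rw [← Nat.cast_add, ZMod.natCast_eq_zero_iff] at h1
    have h2 : n ∣ m := by
      rw [← two_mul] at h1
      exact (Nat.mul_dvd_mul_iff_left (by norm_num)).1 h1
    obtain ⟨c, rfl⟩ := h2
    rcases Nat.even_or_odd' c with ⟨d, rfl | rfl⟩
    · left
      rw [QuaternionGroup.one_def]
      congr 1
      rw [ZMod.natCast_eq_zero_iff]
      exact ⟨d, by ring⟩
    · right
      congr 1
      have : n * (2 * d + 1) = 2 * n * d + n := by ring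
      rw [this, Nat.cast_add, Nat.cast_mul, ZMod.natCast_self, zero_mul, zero_add]
  · rw [QuaternionGroup.xa_mul_xa, QuaternionGroup.one_def] at h
    have h1 := QuaternionGroup.a.inj h
    rw [add_sub_cancel_right, ZMod.natCast_eq_zero_iff] at h1
    have := Nat.le_of_dvd (Nat.pos_of_ne_zero (NeZero.ne n)) h1
    have := Nat.pos_of_ne_zero (NeZero.ne n)
    omega

theorem dihedral_of_quat {Q P : Type*} [Group Q] [Group P] (f : Q →* P) (hf : Function.Surjective f)
    {n : ℕ} [NeZero n] (e : Q ≃* QuaternionGroup n)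
    (hk : ∀ x, f x = 1 ↔ x = 1 ∨ x = e.symm (QuaternionGroup.a n)) :
    Nonempty (P ≃* DihedralGroup n) := by
  have hn : 0 < n := Nat.pos_of_ne_zero (NeZero.ne n)
  let r : P := f (e.symm (QuaternionGroup.a 1))
  let s : P := f (e.symm (QuaternionGroup.xa 0))
  have hpow : ∀ m : ℕ, r ^ m = f (e.symm (QuaternionGroup.a m)) := by
    intro m
    rw [← map_pow, ← map_pow, QuaternionGroup.a_one_pow]
  have hfn : f (e.symm (QuaternionGroup.a n)) = 1 := (hk _).2 (Or.inr rfl)
  have hr1 : ∀ m : ℕ, r ^ m = 1 ↔ n ∣ m := by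
    intro m
    rw [hpow, hk]
    constructor
    · rintro (h | h)
      · have h1 : (QuaternionGroup.a m : QuaternionGroup n) = QuaternionGroup.a 0 := by
          rw [← QuaternionGroup.one_def, ← e.apply_symm_apply (QuaternionGroup.a m), h, map_one]
        have h2 := QuaternionGroup.a.inj h1
        rw [ZMod.natCast_eq_zero_iff] at h2
        exact (Dvd.intro_left 2 rfl).trans h2
      · have h1 : (QuaternionGroup.a m : QuaternionGroup n) = QuaternionGroup.a n := e.symm.injective h
        have h2 := QuaternionGroup.a.inj h1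
        rw [ZMod.natCast_eq_natCast_iff] at h2
        have h3 : m ≡ n [MOD n] := h2.of_mul_left 2
        have h4 := (Nat.modEq_zero_iff_dvd.1 (h3.trans (by simp [Nat.ModEq])))
        exact h4
    · rintro ⟨c, rfl⟩
      rcases Nat.even_or_odd' c with ⟨d, rfl | rfl⟩
      · left
        rw [MulEquiv.map_eq_one_iff, QuaternionGroup.one_def]
        congr 1
        rw [ZMod.natCast_eq_zero_iff]
        exact ⟨d, by ring⟩
      · right
        congr 2
        have : n * (2 * d + 1) = 2 * n * d + n := by ring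
        rw [this, Nat.cast_add, Nat.cast_mul, ZMod.natCast_self, zero_mul, zero_add]
  have hr : orderOf r = n := by
    apply Nat.dvd_antisymm
    · exact orderOf_dvd_of_pow_eq_one ((hr1 n).2 dvd_rfl)
    · exact (hr1 _).1 (pow_orderOf_eq_one r)
  have hs : s * s = 1 := by
    show f _ * f _ = 1
    rw [← map_mul, ← map_mul, QuaternionGroup.xa_mul_xa]
    simpa using hfn
  have hsr : s * r * s = r⁻¹ := by
    rw [eq_inv_iff_mul_eq_one]
    show f _ * f _ * f _ * f _ = 1
    rw [← map_mul, ← map_mul, ← map_mul, ← map_mul, ← map_mul, ← map_mul, QuaternionGroup.xa_mul_a,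
      QuaternionGroup.xa_mul_xa, QuaternionGroup.a_mul_a]
    have : (n : ZMod (2 * n)) + 0 - (0 + 1) + 1 = n := by ring
    rw [this]
    exact hfn
  have hs' : s ∉ Subgroup.zpowers r := by
    rintro ⟨k, hk'⟩
    have hk' : r ^ k = s := hk'
    have h1 : f (e.symm ((QuaternionGroup.a 1) ^ (-k) * QuaternionGroup.xa 0)) = 1 := by
      rw [map_mul, map_mul, map_zpow, map_zpow]
      show r ^ (-k) * s = 1
      rw [← hk', ← zpow_add, neg_add_cancel, zpow_zero]
    obtain ⟨j, hj⟩ : ∃ j : ZMod (2 * n), (QuaternionGroup.a 1 : QuaternionGroup n) ^ (-k) = QuaternionGroup.a j := by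
      have h2 : ∀ m : ℤ, ∃ j : ZMod (2 * n), (QuaternionGroup.a 1 : QuaternionGroup n) ^ m = QuaternionGroup.a j := by
        intro m
        rcases m with m | m
        · exact ⟨m, by rw [Int.ofNat_eq_natCast, zpow_natCast, QuaternionGroup.a_one_pow]⟩
        · refine ⟨-((m + 1 : ℕ) : ZMod (2 * n)), ?_⟩
          rw [zpow_negSucc, QuaternionGroup.a_one_pow]
          rfl
      exact h2 _
    rw [hj, QuaternionGroup.a_mul_xa] at h1
    rcases (hk _).1 h1 with h2 | h2
    · rw [MulEquiv.map_eq_one_iff, QuaternionGroup.one_def] at h2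
      cases h2
    · have h3 := e.symm.injective h2
      cases h3
  have hcQ : Nat.card Q = 4 * n := by
    rw [Nat.card_congr e.toEquiv, Nat.card_eq_fintype_card, QuaternionGroup.card]
  have hker : Nat.card f.ker = 2 := by
    have h1 : (f.ker : Set Q) = {1, e.symm (QuaternionGroup.a n)} := by
      ext x
      simp only [SetLike.mem_coe, MonoidHom.mem_ker, hk, Set.mem_insert_iff, Set.mem_singleton_iff]
    have h2 : (1 : Q) ≠ e.symm (QuaternionGroup.a n) := by
      intro h
      have h3 : (1 : QuaternionGroup n) = QuaternionGroup.a n := by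
        rw [← e.apply_symm_apply (QuaternionGroup.a n), ← h, map_one]
      rw [QuaternionGroup.one_def] at h3
      have h4 := QuaternionGroup.a.inj h3
      rw [eq_comm, ZMod.natCast_eq_zero_iff] at h4
      have := Nat.le_of_dvd hn h4
      omega
    have h3 : Nat.card f.ker = Nat.card (f.ker : Set Q) := rfl
    rw [h3, h1, Nat.card_coe_set_eq, Set.ncard_pair h2]
  have hcP : Nat.card P = 2 * n := by
    have h1 := f.ker.card_mul_index
    rw [Subgroup.index_ker, hker, hcQ, MonoidHom.range_eq_top.2 hf, Subgroup.card_top] at h1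
    omega
  exact Cfsg.Agent.Lib.Dihedral.nonempty_mulEquiv (NeZero.ne n) r s hr hs hsr hs' hcP

open scoped MatrixGroups in
/-- A Sylow 2-subgroup of `PSL(2, q)`, `q` odd, is dihedral. -/
theorem psl2_dihedral {F : Type*} [Field F] [Fintype F] (hF : Odd (Fintype.card F))
    (S : Sylow 2 (Matrix.ProjectiveSpecialLinearGroup (Fin 2) F)) :
    ∃ k : ℕ, 1 ≤ k ∧ Nonempty ((S : Subgroup (Matrix.ProjectiveSpecialLinearGroup (Fin 2) F)) ≃*
      DihedralGroup (2 ^ k)) := by
  have : Fact (Nat.Prime 2) := ⟨Nat.prime_two⟩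
  have : Finite (Matrix.SpecialLinearGroup (Fin 2) F) := inferInstance
  have : Finite (Matrix.ProjectiveSpecialLinearGroup (Fin 2) F) := inferInstanceAs (Finite (_ ⧸ _))
  obtain ⟨Q⟩ : Nonempty (Sylow 2 (Matrix.SpecialLinearGroup (Fin 2) F)) := inferInstance
  obtain ⟨k, hk1, ⟨e⟩⟩ := Cfsg.Agent.S0261.result hF Q
  haveI : NeZero (2 ^ k) := ⟨by positivity⟩
  have h2 : (2 : F) ≠ 0 := (Cfsg.Agent.ClassicalGeometry.PSLTorus.two_ne_zero_iff_odd F).2 hF
  -- `-1 ∈ Q`
  have hneg : (-1 : SL(2, F)) ∈ (Q : Subgroup SL(2, F)) := by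
    have hc : Subgroup.zpowers (-1 : SL(2, F)) ≤ Subgroup.center SL(2, F) := by
      rw [Subgroup.zpowers_le, Subgroup.mem_center_iff]
      intro g
      rw [mul_neg, neg_mul, one_mul, mul_one]
    have hn : (Subgroup.zpowers (-1 : SL(2, F))).Normal := by
      constructor
      intro n hn g
      have := Subgroup.mem_center_iff.1 (hc hn) g
      rw [this, mul_assoc, mul_inv_cancel, mul_one]
      exact hn
    have hp : IsPGroup 2 (Subgroup.zpowers (-1 : SL(2, F))) := by
      intro x
      obtain ⟨j, hj⟩ := x.2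
      refine ⟨1, Subtype.ext ?_⟩
      have hj : (-1 : SL(2, F)) ^ j = x := hj
      rw [Subgroup.coe_pow, ← hj, ← zpow_natCast, ← zpow_mul, mul_comm, zpow_mul]
      norm_num
    exact (IsPGroup.le_sylow_of_normal hp Q) (Subgroup.mem_zpowers _)
  let pr := Cfsg.Agent.ClassicalGeometry.PSLTorus.pr F
  have hpr := Cfsg.Agent.ClassicalGeometry.PSLTorus.pr_surjective F
  let T : Sylow 2 (Matrix.ProjectiveSpecialLinearGroup (Fin 2) F) := Q.mapSurjective hpr
  let f : (Q : Subgroup SL(2, F)) →* (Q : Subgroup SL(2, F)).map pr := pr.subgroupMap Q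
  have hf : Function.Surjective f := pr.subgroupMap_surjective Q
  obtain ⟨e1⟩ := dihedral_of_quat f hf e (fun x => by
    have hm : e ⟨-1, hneg⟩ = QuaternionGroup.a (2 ^ k : ℕ) := by
      rcases quat_sq (e ⟨-1, hneg⟩) (by
        rw [← map_mul, MulEquiv.map_eq_one_iff]
        apply Subtype.ext
        show (-1 : SL(2, F)) * -1 = 1
        rw [neg_mul_neg, one_mul]) with h | h
      · rw [MulEquiv.map_eq_one_iff] at h
        exact absurd (congrArg Subtype.val h) (Cfsg.Agent.ClassicalGeometry.PSLTorus.neg_one_ne_one h2)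
      · exact h
    rw [← hm, e.symm_apply_apply]
    constructor
    · intro h
      have h1 : pr (x : SL(2, F)) = 1 := congrArg Subtype.val h
      rcases (Cfsg.Agent.ClassicalGeometry.PSLTorus.pr_eq_one_iff _).1 h1 with h3 | h3
      · exact Or.inl (Subtype.ext h3)
      · exact Or.inr (Subtype.ext h3)
    · intro h
      apply Subtype.ext
      show pr (x : SL(2, F)) = 1
      rcases h with h | h
      · exact (Cfsg.Agent.ClassicalGeometry.PSLTorus.pr_eq_one_iff _).2 (Or.inl (by rw [h]; rfl))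
      · exact (Cfsg.Agent.ClassicalGeometry.PSLTorus.pr_eq_one_iff _).2 (Or.inr (by rw [h])))
  exact ⟨k, hk1, ⟨(Sylow.equiv S T).trans e1⟩⟩

theorem noncomm_dih {S : Type*} [Group S] {n : ℕ} (hn : 3 ≤ n) (e : S ≃* DihedralGroup n) :
    ∃ x y : S, x * x = 1 ∧ y * y = 1 ∧ x * y ≠ y * x := by
  refine ⟨e.symm (DihedralGroup.sr 0), e.symm (DihedralGroup.sr 1), ?_, ?_, ?_⟩
  · rw [← map_mul, DihedralGroup.sr_mul_self, map_one]
  · rw [← map_mul, DihedralGroup.sr_mul_self, map_one]
  · rw [← map_mul, ← map_mul, DihedralGroup.sr_mul_sr, DihedralGroup.sr_mul_sr]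
    intro h
    have h1 := DihedralGroup.r.inj (e.symm.injective h)
    have h2 : ((2 : ℕ) : ZMod n) = 0 := by
      push_cast
      linear_combination h1
    rw [ZMod.natCast_eq_zero_iff] at h2
    have := Nat.le_of_dvd (by norm_num) h2
    omega

end Cfsg.Agent.H991
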