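import Cfsg.Agent.H802.FusGroup
import Cfsg.Agent.H802.FusCentric
set_option linter.all false

/-!
# Normal subsystems over the whole Sylow group; criteria for simple fusion systems (helper991)

`F` saturated over the finite `p`-group `S`, `E` an invariant saturated subsystem over `S`.

* `autGroup_conj_mem` : `Aut_E(P)` is normal in `Aut_F(P)`;
* `pElement_mem` : `Aut_E(P)` contains the `p`-elements of `Aut_F(P)`, `P` fully automized;
* `mem_of_restrict` : `α ∈ Aut_F(S)` whose restriction to a centric subgroup is in `E` is in `E`;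
* `isSimple_of_generated` : no proper strongly closed subgroup, `Aut_F(S)` generated by automorphisms whose restriction
  to some fully automized centric subgroup `R` is in `O^{p'}(Aut_F(R))`: `F` is simple.
-/

set_option autoImplicit false

namespace Cfsg.Agent.H991

open Cfsg Cfsg.FusionSystem Cfsg.Agent.H802

variable {Ω : Type*} [Group Ω] {S : Subgroup Ω} {F E : FusionSystem S} {p : ℕ}

/-- The Frattini condition of an invariant subsystem over `S`. -/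
theorem frattini (hE : E.IsInvariantIn F) {P : Subgroup Ω} {φ : P →* Ω} (hφ : φ ∈ F.Hom P) :
    ∃ α ∈ F.autGroup S, ∃ φ₀ ∈ E.Hom P, ∀ (x : P) (hx : φ₀ x ∈ S), φ x = ((α ⟨φ₀ x, hx⟩ : S) : Ω) :=
  hE.2.2.2 P (hom_le hφ) φ hφ

/-- `E = F` as soon as `Aut_F(S) ≤ Aut_E(S)`. -/
theorem hom_eq_of_autGroup_le (hE : E.IsInvariantIn F) (h : F.autGroup S ≤ E.autGroup S)
    (P : Subgroup Ω) : E.Hom P = F.Hom P := by
  refine Set.Subset.antisymm (hE.1 P) fun φ hφ => ?_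
  obtain ⟨α, hα, φ₀, hφ₀, he⟩ := frattini hE hφ
  have hα' := (mem_autGroup_iff E le_rfl α).1 (h hα)
  obtain ⟨χ, hχ, hχe⟩ := exists_comp hφ₀ hα' (fun x => hom_apply_mem hφ₀ x)
  refine mem_of_apply_eq hχ fun x => ?_
  rw [hχe, he x (hom_apply_mem hφ₀ x)]
  rfl

/-- `Aut_E(P)` is normalized by `Aut_F(P)`. -/
theorem autGroup_conj_mem (hE : E.IsInvariantIn F) {P : Subgroup Ω} (hP : P ≤ S) {φ α : MulAut P}
    (hφ : φ ∈ F.autGroup P) (hα : α ∈ E.autGroup P) : φ * α * φ⁻¹ ∈ E.autGroup P := by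
  have hφ' := (mem_autGroup_iff F hP φ).1 hφ
  have hα' := (mem_autGroup_iff E hP α).1 hα
  obtain ⟨β, hβ, φ₀, hφ₀, he⟩ := frattini hE hφ'
  have hr : φ₀.range ≤ S := range_le_of_mem hφ₀
  -- the inverse of `φ₀`
  obtain ⟨ι, hι, hιr, hι1, hι2⟩ := exists_inv hφ₀ rfl
  have hιP : ∀ y : φ₀.range, ι y ∈ P := fun y => hιr.le ⟨y, rfl⟩
  -- `ψ = φ₀ α φ₀⁻¹` on `φ₀(P)`
  obtain ⟨ψ₁, hψ₁, hψ₁e⟩ := exists_comp hι hα' hιP
  obtain ⟨ψ, hψ, hψe⟩ := exists_comp hψ₁ hφ₀ (fun y => by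
    rw [hψ₁e]
    exact (α ⟨ι y, hιP y⟩).2)
  obtain ⟨χ, hχ, hχe⟩ := hE.2.2.1 φ₀.range hr ψ hψ β hβ
  -- the source of `χ` is `P`
  have hsrc : (φ₀.range.subgroupOf S).map (S.subtype.comp β.toMonoidHom) = P := by
    ext z
    constructor
    · rintro ⟨⟨y, hyS⟩, hy, rfl⟩
      obtain ⟨x, hx⟩ : ∃ x : P, φ₀ x = y := hy
      subst hx
      have h1 := he x hyS
      show ((β ⟨φ₀ x, hyS⟩ : S) : Ω) ∈ P
      rw [← h1]
      exact (φ x).2
    · intro hz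
      obtain ⟨x, hx⟩ : ∃ x : P, φ x = ⟨z, hz⟩ := φ.surjective _
      have h1 := he x (hom_apply_mem hφ₀ x)
      refine ⟨⟨φ₀ x, hom_apply_mem hφ₀ x⟩, ⟨x, rfl⟩, ?_⟩
      show ((β ⟨φ₀ x, hom_apply_mem hφ₀ x⟩ : S) : Ω) = z
      rw [← h1]
      show ((φ x : P) : Ω) = z
      rw [hx]
  have hle : P ≤ (φ₀.range.subgroupOf S).map (S.subtype.comp β.toMonoidHom) := hsrc.ge
  rw [mem_autGroup_iff E hP]
  refine mem_of_agree hχ hle fun x hx => ?_
  -- write `x = φ a`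
  obtain ⟨a, ha⟩ : ∃ a : P, φ a = ⟨x, hx⟩ := φ.surjective _
  have hxe : x = ((φ a : P) : Ω) := by rw [ha]
  have h1 : ((φ a : P) : Ω) = ((β ⟨φ₀ a, hom_apply_mem hφ₀ a⟩ : S) : Ω) :=
    he a (hom_apply_mem hφ₀ a)
  have hψa : ψ ⟨φ₀ a, ⟨a, rfl⟩⟩ = φ₀ (α a) := by
    rw [hψe]
    congr 1
    apply Subtype.ext
    show ψ₁ ⟨φ₀ a, ⟨a, rfl⟩⟩ = ((α a : P) : Ω)
    rw [hψ₁e]
    show ((α ⟨ι ⟨φ₀ a, ⟨a, rfl⟩⟩, _⟩ : P) : Ω) = ((α a : P) : Ω)
    congr 2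
    exact Subtype.ext (hι1 a _)
  have h2 : ((φ (α a) : P) : Ω) = ((β ⟨φ₀ (α a), hom_apply_mem hφ₀ _⟩ : S) : Ω) :=
    he (α a) (hom_apply_mem hφ₀ _)
  have h3 := hχe ⟨φ₀ a, ⟨a, rfl⟩⟩ (by rw [hψa]; exact hom_apply_mem hφ₀ _)
    (by
      show ((β ⟨φ₀ a, _⟩ : S) : Ω) ∈ _
      rw [← h1]
      exact hle (φ a).2)
  have e1 : (⟨x, hle hx⟩ : ((φ₀.range.subgroupOf S).map (S.subtype.comp β.toMonoidHom) : Subgroup Ω)) =
      ⟨((β ⟨φ₀ a, hom_apply_mem hφ₀ a⟩ : S) : Ω), by rw [← h1]; exact hle (φ a).2⟩ := by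
    apply Subtype.ext
    exact hxe.trans h1
  rw [e1]
  refine Eq.trans ?_ h3.symm
  show ((φ (α (φ⁻¹ ⟨x, hx⟩)) : P) : Ω) = _
  have e2 : φ⁻¹ ⟨x, hx⟩ = a := by
    rw [← ha]
    exact φ.symm_apply_apply a
  rw [e2, h2]
  congr 2
  apply Subtype.ext
  exact hψa.symm

/-- `Aut_E(P)` contains the elements of `p`-power order of `Aut_F(P)`, for `P` fully automized in `F`. -/
theorem pElement_mem [Fact p.Prime] [Finite S] (hE : E.IsInvariantIn F) {P : Subgroup Ω}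
    (hP : F.IsFullyAutomized p P) {α : MulAut P} (hα : α ∈ F.autGroup P)
    (hp : ∃ k : ℕ, orderOf α = p ^ k) : α ∈ E.autGroup P := by
  obtain ⟨hPS, R, hR⟩ := hP
  have hfin : Finite P := finite_of_le hPS
  obtain ⟨k, hk⟩ := hp
  -- `⟨α⟩` is conjugate in `Aut_F(P)` into `Aut_S(P)`
  have hα1 : (⟨α, hα⟩ : F.autGroup P) ^ p ^ k = 1 := by
    apply Subtype.ext
    show α ^ p ^ k = 1
    rw [← hk, pow_orderOf_eq_one]
  have hpg : IsPGroup p (Subgroup.zpowers (⟨α, hα⟩ : F.autGroup P)) := by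
    refine IsPGroup.of_card (n := Nat.factorization (orderOf (⟨α, hα⟩ : F.autGroup P)) p) ?_
    rw [Nat.card_zpowers]
    obtain ⟨j, -, hj⟩ := (Nat.dvd_prime_pow Fact.out).1 (orderOf_dvd_of_pow_eq_one hα1)
    rw [hj, Nat.Prime.factorization_pow Fact.out]
    simp
  obtain ⟨Q, hQ⟩ := hpg.exists_le_sylow
  obtain ⟨g, hg⟩ := MulAction.exists_smul_eq (F.autGroup P) Q R
  have h1 : g * (⟨α, hα⟩ : F.autGroup P) * g⁻¹ ∈ (R : Subgroup (F.autGroup P)) := by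
    rw [← hg]
    have h2 : (⟨α, hα⟩ : F.autGroup P) ∈ (Q : Subgroup (F.autGroup P)) :=
      hQ (Subgroup.mem_zpowers _)
    exact ⟨_, h2, rfl⟩
  rw [hR, Subgroup.mem_subgroupOf] at h1
  have h3 : (g : MulAut P) * α * (g : MulAut P)⁻¹ ∈ E.autGroup P :=
    autInducedBy_le_autGroup E hPS h1
  have h4 := autGroup_conj_mem hE hPS ((F.autGroup P).inv_mem g.2) h3
  have h5 : (g : MulAut P)⁻¹ * ((g : MulAut P) * α * (g : MulAut P)⁻¹) * ((g : MulAut P)⁻¹)⁻¹ = α := by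
    group
  rwa [h5] at h4

/-- `Aut_E(P)` contains `O^{p'}(Aut_F(P))`. -/
theorem closure_mem [Fact p.Prime] [Finite S] (hE : E.IsInvariantIn F) {P : Subgroup Ω}
    (hP : F.IsFullyAutomized p P) {α : MulAut P}
    (hα : α ∈ Subgroup.closure {γ : MulAut P | γ ∈ F.autGroup P ∧ ∃ k : ℕ, orderOf γ = p ^ k}) :
    α ∈ E.autGroup P := by
  refine (Subgroup.closure_le _).2 ?_ hα
  rintro γ ⟨h1, h2⟩
  exact pElement_mem hE hP h1 h2

/-- An element of `Aut_F(S)` whose restriction to some centric subgroup is in `E` is in `Aut_E(S)`. -/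
theorem mem_of_restrict [Fact p.Prime] [Finite S] (hS : IsPGroup p S) (hF : F.IsSaturated p)
    (hEs : E.IsSaturated p) (hE : E.IsInvariantIn F) {R : Subgroup Ω} (hR : F.IsCentric R)
    {α : MulAut S} (hα : α ∈ F.autGroup S) {γ : MulAut R} (hγ : γ ∈ E.autGroup R)
    (h : ∀ x : R, ((α ⟨x, hR.1 x.2⟩ : S) : Ω) = ((γ x : R) : Ω)) : α ∈ E.autGroup S := by
  rw [mem_autGroup_iff E le_rfl]
  refine mem_of_restrict_centric hS hF hEs hE.1 hR hR.1 ((mem_autGroup_iff F le_rfl α).1 hα) ?_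
  refine mem_of_apply_eq ((mem_autGroup_iff E hR.1 γ).1 hγ) fun x => ?_
  exact h x

/-- The generators of `Aut_F(S)` allowed in the criterion. -/
def Gen (F : FusionSystem S) (p : ℕ) (α : MulAut S) : Prop :=
  α ∈ autInducedBy S S ∨ ∃ R : Subgroup Ω, ∃ hR : F.IsCentric R, F.IsFullyAutomized p R ∧
    ∃ γ ∈ Subgroup.closure {γ : MulAut R | γ ∈ F.autGroup R ∧ ∃ k : ℕ, orderOf γ = p ^ k},
      ∀ x : R, ((α ⟨x, hR.1 x.2⟩ : S) : Ω) = ((γ x : R) : Ω)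

/-- **Criterion for the simplicity of a fusion system.** -/
theorem isSimple_of_generated [Fact p.Prime] [Finite S] (hS : IsPGroup p S) (hF : F.IsSaturated p)
    (hS1 : S ≠ ⊥) (hsc : ∀ T : Subgroup Ω, F.StronglyClosed T → T = ⊥ ∨ T = S)
    (hgen : F.autGroup S ≤ Subgroup.closure {α : MulAut S | α ∈ F.autGroup S ∧ Gen F p α}) :
    F.IsSimple p := by
  refine ⟨hF, hS1, fun T E hE => ?_⟩
  obtain ⟨⟨hEs, -, hEi⟩, -⟩ := hE
  rcases hsc T hEi.2.1 with h | h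
  · exact Or.inl h
  · subst h
    refine Or.inr ⟨rfl, fun P => hom_eq_of_autGroup_le hEi (hgen.trans ?_) P⟩
    rw [Subgroup.closure_le]
    rintro α ⟨hα, h | ⟨R, hR, hRa, γ, hγ, he⟩⟩
    · exact autInducedBy_le_autGroup E le_rfl h
    · exact mem_of_restrict hS hF hEs hEi hR hα (closure_mem hEi hRa hγ) he

theorem inn_eq_autInducedBy (S : Subgroup Ω) : Inn ↥S = autInducedBy S S := by
  ext α
  rw [mem_autInducedBy_iff]
  constructor
  · rintro ⟨g, rfl⟩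
    exact ⟨g, g.2, fun x => rfl⟩
  · rintro ⟨g, hg, h⟩
    refine ⟨⟨g, hg⟩, MulEquiv.ext fun x => Subtype.ext ?_⟩
    exact (h x).symm

/-- The case `Aut_F(S) = Inn(S)`. -/
theorem isSimple_of_inner [Fact p.Prime] [Finite S] (hS : IsPGroup p S) (hF : F.IsSaturated p)
    (hS1 : S ≠ ⊥) (htop : F.autGroup S ≤ autInducedBy S S)
    (hsc : ∀ T : Subgroup Ω, F.StronglyClosed T → T = ⊥ ∨ T = S) : F.IsSimple p :=
  isSimple_of_generated hS hF hS1 hsc fun _ hα =>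
    Subgroup.subset_closure ⟨hα, Or.inl (htop hα)⟩

end Cfsg.Agent.H991
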